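import Mathlib
import Cfsg.Agent.Lib.Helper51.EA38.Defs

/-!
# S1338 package (Q2): the cube bound `|W| ≤ |C_W(x)| ^ 3` (helper6)
-/

set_option autoImplicit false

namespace Cfsg.Agent.Lib.Helper6.EA38

universe u

/-- For an additive endomorphism `φ` and a subgroup `S`: `|S| ≤ |ker φ| * |φ S|`. -/
theorem card_le_ker_mul_map {A : Type u} [AddCommGroup A] [Finite A] (φ : A →+ A)
    (S : AddSubgroup A) : Nat.card S ≤ Nat.card φ.ker * Nat.card (S.map φ) := by
  let ψ : S →+ A := φ.comp S.subtype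
  have h1 : Nat.card ψ.ker * ψ.ker.index = Nat.card S := AddSubgroup.card_mul_index ψ.ker
  have h2 : ψ.ker.index = Nat.card ψ.range := AddSubgroup.index_ker ψ
  have h3 : ψ.range = S.map φ := by
    have := AddMonoidHom.map_range φ S.subtype
    rw [AddSubgroup.range_subtype] at this
    exact this.symm
  have h4 : Nat.card ψ.ker ≤ Nat.card φ.ker := by
    have hmem : ∀ a : ψ.ker, a.1.1 ∈ φ.ker := by
      intro a
      have : ψ a.1 = 0 := a.2
      exact this
    apply Nat.card_le_card_of_injective (fun a : ψ.ker => (⟨a.1.1, hmem a⟩ : φ.ker))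
    intro a b hab
    have : a.1.1 = b.1.1 := Subtype.mk.inj hab
    exact Subtype.ext (Subtype.ext this)
  calc Nat.card S = Nat.card ψ.ker * ψ.ker.index := h1.symm
    _ = Nat.card ψ.ker * Nat.card (S.map φ) := by rw [h2, h3]
    _ ≤ Nat.card φ.ker * Nat.card (S.map φ) := Nat.mul_le_mul_right _ h4

/-- The abstract additive cube bound. -/
theorem cube_add {A : Type u} [AddCommGroup A] [Finite A] (h3 : ∀ a : A, (3 : ℕ) • a = 0)
    (σ : A →+ A) (hσ : ∀ a, σ (σ (σ a)) = a) :
    Nat.card A ≤ Nat.card (σ - AddMonoidHom.id A).ker ^ 3 := by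
  set φ : A →+ A := σ - AddMonoidHom.id A with hφ
  have hφ3 : ∀ a, φ (φ (φ a)) = 0 := by
    intro a
    simp only [hφ, AddMonoidHom.sub_apply, AddMonoidHom.id_apply, map_sub, hσ]
    have h := h3 (σ a - σ (σ a))
    have e : a - σ (σ a) - (σ (σ a) - σ a) - (σ (σ a) - σ a - (σ a - a)) =
        (3 : ℕ) • (σ a - σ (σ a)) := by
      abel
    rw [e, h]
  let S1 : AddSubgroup A := (⊤ : AddSubgroup A).map φ
  let S2 : AddSubgroup A := S1.map φ
  let S3 : AddSubgroup A := S2.map φ
  have k0 := card_le_ker_mul_map φ (⊤ : AddSubgroup A)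
  have k1 := card_le_ker_mul_map φ S1
  have k2 := card_le_ker_mul_map φ S2
  have hS3 : Nat.card S3 = 1 := by
    have : S3 = ⊥ := by
      rw [eq_bot_iff]
      rintro y ⟨y2, ⟨y1, ⟨y0, -, rfl⟩, rfl⟩, rfl⟩
      rw [AddSubgroup.mem_bot]
      exact hφ3 y0
    rw [this, AddSubgroup.card_bot]
  rw [AddSubgroup.card_top] at k0
  have k2' : Nat.card S2 ≤ Nat.card φ.ker := by
    have : Nat.card S2 ≤ Nat.card φ.ker * Nat.card S3 := k2
    rwa [hS3, Nat.mul_one] at this
  have k1' : Nat.card S1 ≤ Nat.card φ.ker * Nat.card φ.ker :=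
    le_trans k1 (Nat.mul_le_mul_left _ k2')
  calc Nat.card A ≤ Nat.card φ.ker * Nat.card S1 := k0
    _ ≤ Nat.card φ.ker * (Nat.card φ.ker * Nat.card φ.ker) := Nat.mul_le_mul_left _ k1'
    _ = Nat.card φ.ker ^ 3 := by ring

/-- The `CommGroup` structure on a commutative subgroup. -/
@[instance_reducible] def commGroupOfIsMulCommutative {P : Type u} [Group P] (W : Subgroup P)
    (h : IsMulCommutative ↥W) : CommGroup ↥W :=
  { (inferInstance : Group ↥W) with mul_comm := fun a b => h.is_comm.comm a b }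

/-- Conjugation by `x` on a normal subgroup `W`. -/
def conjOn {P : Type u} [Group P] (W : Subgroup P) (hW : W.Normal) (x : P) : ↥W →* ↥W where
  toFun w := ⟨x * w.1 * x⁻¹, hW.conj_mem w.1 w.2 x⟩
  map_one' := by
    apply Subtype.ext
    simp
  map_mul' a b := by
    apply Subtype.ext
    show x * (a.1 * b.1) * x⁻¹ = (x * a.1 * x⁻¹) * (x * b.1 * x⁻¹)
    group

theorem lemCube : Cfsg.Agent.Lib.Helper51.EA38.LemCube.{u} := by
  intro P _ _ W hW hEA x hx
  obtain ⟨hcomm, hexp⟩ := hEA
  let _ : CommGroup ↥W := commGroupOfIsMulCommutative W hcomm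
  let σ : Additive ↥W →+ Additive ↥W := MonoidHom.toAdditive (conjOn W hW x)
  have h3 : ∀ a : Additive ↥W, (3 : ℕ) • a = 0 := by
    intro a
    have h : (Additive.toMul a) ^ 3 = 1 := by
      apply Subtype.ext
      have := hexp (Additive.toMul a).1 (Additive.toMul a).2
      simpa using this
    have : Additive.toMul ((3 : ℕ) • a) = Additive.toMul (0 : Additive ↥W) := by
      rw [toMul_nsmul, h, toMul_zero]
    exact Additive.toMul.injective this
  have hσ : ∀ a, σ (σ (σ a)) = a := by
    intro a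
    apply Additive.toMul.injective
    apply Subtype.ext
    show x * (x * (x * (Additive.toMul a).1 * x⁻¹) * x⁻¹) * x⁻¹ = (Additive.toMul a).1
    have e : ∀ y : P, x * (x * (x * y * x⁻¹) * x⁻¹) * x⁻¹ = x ^ 3 * y * (x ^ 3)⁻¹ := by
      intro y
      rw [pow_succ, pow_succ, pow_one]
      group
    rw [e, hx]
    simp
  have hmain := cube_add h3 σ hσ
  have hker : Nat.card (σ - AddMonoidHom.id (Additive ↥W)).ker ≤
      Nat.card ↥(W ⊓ Subgroup.centralizer {x}) := by
    have hmem : ∀ a : (σ - AddMonoidHom.id (Additive ↥W)).ker,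
        (Additive.toMul a.1).1 ∈ W ⊓ Subgroup.centralizer {x} := by
      intro a
      have h0 : (σ - AddMonoidHom.id (Additive ↥W)) a.1 = 0 := a.2
      have h1 : σ a.1 = a.1 := by
        rw [AddMonoidHom.sub_apply, AddMonoidHom.id_apply] at h0
        exact sub_eq_zero.mp h0
      have h2 : x * (Additive.toMul a.1).1 * x⁻¹ = (Additive.toMul a.1).1 := by
        have := congrArg (fun t => (Additive.toMul t).1) h1
        exact this
      have hc : (Additive.toMul a.1).1 ∈ Subgroup.centralizer ({x} : Set P) := by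
        rw [Subgroup.mem_centralizer_iff]
        intro y hy
        rw [Set.mem_singleton_iff] at hy
        subst hy
        calc y * (Additive.toMul a.1).1 = y * (Additive.toMul a.1).1 * y⁻¹ * y := by group
          _ = (Additive.toMul a.1).1 * y := by rw [h2]
      exact ⟨(Additive.toMul a.1).2, hc⟩
    apply Nat.card_le_card_of_injective
      (fun a : (σ - AddMonoidHom.id (Additive ↥W)).ker =>
        (⟨(Additive.toMul a.1).1, hmem a⟩ : ↥(W ⊓ Subgroup.centralizer {x})))
    intro a b hab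
    have h1 : (Additive.toMul a.1).1 = (Additive.toMul b.1).1 := Subtype.mk.inj hab
    exact Subtype.ext (Additive.toMul.injective (Subtype.ext h1))
  have hcardW : Nat.card (Additive ↥W) = Nat.card ↥W := Nat.card_congr Additive.toMul
  calc Nat.card ↥W = Nat.card (Additive ↥W) := hcardW.symm
    _ ≤ Nat.card (σ - AddMonoidHom.id (Additive ↥W)).ker ^ 3 := hmain
    _ ≤ Nat.card ↥(W ⊓ Subgroup.centralizer {x}) ^ 3 := Nat.pow_le_pow_left hker 3

end Cfsg.Agent.Lib.Helper6.EA38
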