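import Mathlib
import Cfsg.Agent.Lib.Helper51.EA38.Defs

/-!
# S1338 package (Q4): the commutator map `a ↦ [w, a]` (helper6)
-/

set_option autoImplicit false

namespace Cfsg.Agent.Lib.Helper6.EA38

universe u

/-- The commutator map `a ↦ w a w⁻¹ a⁻¹` as a homomorphism `A → Z`. -/
noncomputable def stepHom {P : Type u} [Group P] (A Z : Subgroup P) (w : P)
    (h1 : ∀ a ∈ A, w * a * w⁻¹ * a⁻¹ ∈ Z) (h2 : ∀ a ∈ A, ∀ z ∈ Z, a * z = z * a) :
    ↥A →* ↥Z where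
  toFun a := ⟨w * a.1 * w⁻¹ * a.1⁻¹, h1 a.1 a.2⟩
  map_one' := by
    apply Subtype.ext
    simp
  map_mul' a b := by
    apply Subtype.ext
    have hb := h2 a.1 a.2 _ (h1 b.1 b.2)
    show w * (a.1 * b.1) * w⁻¹ * (a.1 * b.1)⁻¹ =
      (w * a.1 * w⁻¹ * a.1⁻¹) * (w * b.1 * w⁻¹ * b.1⁻¹)
    have e : w * (a.1 * b.1) * w⁻¹ * (a.1 * b.1)⁻¹ =
        (w * a.1 * w⁻¹ * a.1⁻¹) * (a.1 * (w * b.1 * w⁻¹ * b.1⁻¹)) * a.1⁻¹ := by
      group
    rw [e, hb]
    group

theorem stepHom_ker_le {P : Type u} [Group P] (A Z : Subgroup P) (w : P)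
    (h1 : ∀ a ∈ A, w * a * w⁻¹ * a⁻¹ ∈ Z) (h2 : ∀ a ∈ A, ∀ z ∈ Z, a * z = z * a) :
    (stepHom A Z w h1 h2).ker.map A.subtype ≤ A ⊓ Subgroup.centralizer {w} := by
  rintro x ⟨a, ha, rfl⟩
  have h : stepHom A Z w h1 h2 a = 1 := ha
  have h' : w * a.1 * w⁻¹ * a.1⁻¹ = 1 := congrArg Subtype.val h
  have hc : a.1 ∈ Subgroup.centralizer ({w} : Set P) := by
    rw [Subgroup.mem_centralizer_iff]
    intro y hy
    rw [Set.mem_singleton_iff] at hy
    subst hy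
    have h3 : y * a.1 * y⁻¹ = a.1 := mul_inv_eq_one.mp h'
    calc y * a.1 = y * a.1 * y⁻¹ * y := by group
      _ = a.1 * y := by rw [h3]
  exact ⟨a.2, hc⟩

theorem lemStep : Cfsg.Agent.Lib.Helper51.EA38.LemStep.{u} := by
  intro P _ _ A Z w h1 h2
  let f := stepHom A Z w h1 h2
  have hcard : Nat.card f.ker * f.ker.index = Nat.card ↥A := Subgroup.card_mul_index f.ker
  have hidx : f.ker.index = Nat.card f.range := Subgroup.index_ker f
  have hrange : Nat.card f.range ≤ Nat.card ↥Z := Subgroup.card_le_card_group f.range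
  have hker : Nat.card f.ker ≤ Nat.card ↥(A ⊓ Subgroup.centralizer {w}) := by
    have e1 : Nat.card f.ker = Nat.card ↥(f.ker.map A.subtype) :=
      Nat.card_congr (Subgroup.equivMapOfInjective f.ker A.subtype
        (Subgroup.subtype_injective A)).toEquiv
    rw [e1]
    exact Subgroup.card_le_of_le (stepHom_ker_le A Z w h1 h2)
  calc Nat.card ↥A = Nat.card f.ker * f.ker.index := hcard.symm
    _ = Nat.card f.ker * Nat.card f.range := by rw [hidx]
    _ ≤ Nat.card ↥(A ⊓ Subgroup.centralizer {w}) * Nat.card ↥Z := Nat.mul_le_mul hker hrange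
    _ = Nat.card ↥Z * Nat.card ↥(A ⊓ Subgroup.centralizer {w}) := Nat.mul_comm _ _

end Cfsg.Agent.Lib.Helper6.EA38
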